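import Groth.Agent.AlgGrp.K339.EqRes
import Groth.Agent.Resolve.K339.HRes
import Groth.Agent.CalgB.ProjImm2
import Groth.Agent.Localalg.BlowBoundary2
import Groth.Agent.Sga2lef.H338.StalkDepth
import Groth.Agent.AlgSp.K642.HQProj
import Groth.Agent.Models.K381.DedFlat
import Groth.Agent.S1585

/-!
# Equivariant resolution of surfaces, from the resolution of normal surface singularities by normalized blow-ups
-/

set_option autoImplicit false
universe u
open CategoryTheory MonoidalCategory CartesianMonoidalCategory MonObj GrpObj AlgebraicGeometry Limits TopologicalSpace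
open Groth.Agent Groth.Agent.Resolve.K375 Tower GChain Geo NormSt HomGlue Groth.Agent.CurvesC.Modif
open K339.EqPoint _root_.K377.QESch _root_.K375.NagSch

namespace K339.EqMain

/-- Two-dimensional normal Noetherian local domains with a resolution are resolved by normalized blow-ups. -/
def NB : Prop := ∀ (A : Type u) [CommRing A] [IsDomain A] [IsLocalRing A]
    [IsNoetherianRing A] [IsIntegrallyClosed A] (_ : ringKrullDim A = 2)
    (_ : ∃ (X : Scheme.{u}) (f : X ⟶ Spec (CommRingCat.of A)), IsProper f ∧ IsIntegral X ∧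
      (∃ U : (Spec (CommRingCat.of A)).Opens, (U : Set (Spec (CommRingCat.of A))).Nonempty ∧ IsIso (f ∣_ U)) ∧
      ∀ x : X, IsRegularLocalRing (X.presheaf.stalk x)),
    ∃ (Xn : Scheme.{u}) (g : Xn ⟶ Spec (CommRingCat.of A)), Resolve.IsNormPtBlowupSeq g ∧ IsProper g ∧
      ∀ x : Xn, IsRegularLocalRing (Xn.presheaf.stalk x)

theorem hseq (H : NB.{u}) {S Z : Scheme.{u}} (hZ : QE Z) {r : Z ⟶ S} (h : ClN r) (z : Z)
    (hz : ¬ IsRegularLocalRing (Z.presheaf.stalk z)) :
    ∃ (W : Scheme.{u}) (g : W ⟶ Spec (Z.presheaf.stalk z)), Resolve.IsNormPtBlowupSeq g ∧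
        ∀ w : W, IsRegularLocalRing (W.presheaf.stalk w) := by
  have hN := h.noeth
  have hdim : ringKrullDim (Z.presheaf.stalk z) = 2 := le_antisymm (h.dim z) (NonReg.two_le h z hz)
  obtain ⟨h1, h2⟩ := h.normal z
  have hres := resolvable_stalk hZ z ⟨h1, h2⟩ hdim
  obtain ⟨W, g, hg, -, hW⟩ := H (Z.presheaf.stalk z) hdim (HRes.hres_of_resolvable _ hdim hres)
  exact ⟨W, g, hg, hW⟩

theorem main (H : NB.{u}) (k : Type u) [Field k]
    (G X : Over (Spec (CommRingCat.of k))) [GrpObj G] [Smooth G.hom] [QuasiCompact G.hom] [ConnectedSpace ↥G.left]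
    [GeometricallyIntegral X.hom] (hproj : Neron.IsProjectiveOver k X) (hdim : topologicalKrullDim ↥X.left = 2)
    (a : AlgGrp.Action G X) :
    ∃ (X' : Over (Spec (CommRingCat.of k))) (a' : AlgGrp.Action G X') (f : X' ⟶ X),
      GeometricallyIntegral X'.hom ∧ topologicalKrullDim ↥X'.left = 2 ∧ (∀ x : ↥X'.left, IsRegularLocalRing (X'.left.presheaf.stalk x)) ∧
      Neron.IsProjectiveOver k X' ∧ IsProper f.left ∧ (G ◁ f) ≫ a.act = a'.act ≫ f ∧
      ∀ U : X.left.Opens, (∀ x ∈ U, IsRegularLocalRing (X.left.presheaf.stalk x)) → IsIso (f.left ∣_ U) := by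
  have hSpec := K642.HQProj.exists_isAmple_of_isAffine (Spec (CommRingCat.of k))
  obtain ⟨hXp, L, hL⟩ := (Groth.Agent.CalgB.ProjImm.closedImmersion_iff hSpec X.hom).1 hproj
  have hXi : IsIntegral X.left := GeometricallyIntegral.isIntegral_of_subsingleton X.hom
  have hXN : IsNoetherian X.left := by
    have : IsLocallyNoetherian X.left := LocallyOfFiniteType.isLocallyNoetherian X.hom
    have : CompactSpace X.left := QuasiCompact.compactSpace_of_compactSpace X.hom
    exact {}
  have h0 : EGA4.IsExcellent Γ(Spec (CommRingCat.of k), ⊤) :=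
    Sga2lef.H338.StalkDepth.isExcellent_of_ringEquiv
      (Scheme.ΓSpecIso (CommRingCat.of k)).symm.commRingCatIsoToRingEquiv
      (Sga2lef.H338.StalkDepth.isExcellent_field k)
  have hQk : QE (Spec (CommRingCat.of k)) := fun x =>
    ⟨⟨⊤, isAffineOpen_top _⟩, trivial, h0.1, h0.2.2.1, h0.2.2.2⟩
  have hQX : QE X.left := of_locallyOfFiniteType X.hom hQk
  -- the normalization
  let hov : X.left.Over (Spec (CommRingCat.of k)) := ⟨X.hom⟩
  have hlft : LocallyOfFiniteType (X.left ↘ Spec (CommRingCat.of k)) := inferInstanceAs (LocallyOfFiniteType X.hom)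
  obtain ⟨hfin, hdom, ⟨V, hV, hVi⟩, hint, hnor⟩ := Groth.Agent.S1585.result k X.left
  let S : Over (Spec (CommRingCat.of k)) := Over.mk (Curv2.normalizationι X.left ≫ X.hom)
  let ν : S ⟶ X := Over.homMk (Curv2.normalizationι X.left)
  have hSi : IsIntegral S.left := hint
  have hSl : LocallyOfFiniteType S.hom :=
    inferInstanceAs (LocallyOfFiniteType (Curv2.normalizationι X.left ≫ X.hom))
  have hSN : IsNoetherian S.left := isNoetherian_of_isProper (Curv2.normalizationι X.left)
  have hQS : QE S.left := of_locallyOfFiniteType (Curv2.normalizationι X.left) hQX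
  have hνm : IsModif ν.left := ⟨inferInstanceAs (IsProper (Curv2.normalizationι X.left)), hint, V, hV, hVi⟩
  have hSdim : topologicalKrullDim S.left = 2 := by
    rw [← hdim]
    exact Groth.Agent.Localalg.BlowBoundary2.topologicalKrullDim_eq X.hom (Curv2.normalizationι X.left) V hV
  have hcl : ClN (𝟙 S.left) := ⟨⟨inferInstance, hint, ⊤, ⟨genericPoint _, trivial⟩, inferInstance⟩, hSN, hnor,
    isNag hQS, fun z => hSdim ▸ K381.DedFlat.ringKrullDim_stalk_le S.left z⟩
  -- the action on the normalization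
  obtain ⟨m, hm⟩ := EqStep.exists_lift_normalization (Z := X) hfin a.act (us_act a)
  have hVne : ((ν.left ⁻¹ᵁ V : S.left.Opens) : Set S.left).Nonempty := by
    have hs := hνm.surjective
    obtain ⟨s, hs'⟩ := hV
    obtain ⟨y, hy⟩ := hs.surj s
    exact ⟨y, by change ν.left y ∈ V; rw [hy]; exact hs'⟩
  have hVi' : IsIso (ν.left ∣_ V) := hVi
  have hsepν : IsSeparated ν.left := inferInstanceAs (IsSeparated (Curv2.normalizationι X.left))
  obtain ⟨aS, haS⟩ := LiftAct.exists_action a ν V hVne m hm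
  have haS' : (G ◁ ν) ≫ a.act = aS.act ≫ ν := by rw [haS]; exact hm
  -- the property
  have hE : EqRes.E aS (𝟙 S.left) := by
    refine ⟨?_, ⟨_, CohqB.AmpCocycle.isAmple_pullback (Curv2.normalizationι X.left) hL⟩, Off.id _⟩
    intro p hp
    obtain rfl : p = S.hom := by rw [← hp, Category.id_comp]
    refine ⟨aS, ?_⟩
    have : (G ◁ 𝟙 S) ≫ aS.act = aS.act ≫ 𝟙 S := by
      rw [MonoidalCategory.whiskerLeft_id, Category.id_comp, Category.comp_id]
    exact this
  obtain ⟨Y, g, hg, hY, hEY, hreg⟩ := NonReg.exists_seq hQS (EqRes.E aS)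
    (fun r b z h hE hb => EqRes.E_step aS hQS r b z h hE hb) (𝟙 S.left) hcl hE (fun z hz => hseq H hQS hcl z hz)
  obtain ⟨r, hr⟩ : ∃ r, r = g ≫ 𝟙 S.left := ⟨_, rfl⟩
  rw [← hr] at hY hEY
  have hrp := hY.modif.proper
  have hYi := hY.modif.integral
  obtain ⟨aY, haY⟩ := hEY.1 (r ≫ S.hom) rfl
  let Yo : Over (Spec (CommRingCat.of k)) := Over.mk (r ≫ S.hom)
  let ρ : Yo ⟶ S := Over.homMk r
  have hmod : IsModif (r ≫ Curv2.normalizationι X.left) := hY.modif.comp hνm
  obtain ⟨W, hW, hWi⟩ := hmod.exists_isIso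
  refine ⟨Yo, aY, ρ ≫ ν, ?_, ?_, hreg, ?_, hmod.proper, ?_, ?_⟩
  · have h1 := LiftAct.geometricallyIntegral_of_isModif X.hom (r ≫ Curv2.normalizationι X.left) hmod
    rw [Category.assoc] at h1
    exact h1
  · rw [← hdim]
    have := hmod.proper
    have : IsIntegral Yo.left := hYi
    exact Groth.Agent.Localalg.BlowBoundary2.topologicalKrullDim_eq X.hom (r ≫ Curv2.normalizationι X.left) W hW
  · refine (Groth.Agent.CalgB.ProjImm.closedImmersion_iff hSpec Yo.hom).2 ⟨?_, hEY.2.1⟩
    exact inferInstanceAs (IsProper (r ≫ Curv2.normalizationι X.left ≫ X.hom))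
  · have haY' : (G ◁ ρ) ≫ aS.act = aY.act ≫ ρ := haY
    rw [MonoidalCategory.whiskerLeft_comp, Category.assoc, haS', reassoc_of% haY']
  · intro U hU
    have h1 := EqRes.isIso_normalizationι_of_regular X.left U hU
    have h2 : IsIso (r ∣_ (Curv2.normalizationι X.left ⁻¹ᵁ U)) := by
      refine EqRes.isIso_restrict_of_off hEY.2.2 _ fun s hs hbad => hbad ?_
      have h3 : IsIso ((Curv2.normalizationι X.left).stalkMap s) :=
        Dix.BirIso.isIso_stalkMap (Curv2.normalizationι X.left) U h1 s hs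
      have := hU _ hs
      exact IsRegularLocalRing.of_ringEquiv
        (asIso ((Curv2.normalizationι X.left).stalkMap s)).commRingCatIsoToRingEquiv
    change IsIso ((r ≫ Curv2.normalizationι X.left) ∣_ U)
    rw [morphismRestrict_comp]
    exact IsIso.comp_isIso' h2 h1

end K339.EqMain
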