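import Groth.Agent.AlgGrp.K339.LiftAct
import Groth.Agent.AlgGrp.K403.Act2
import Groth.Agent.Etcore.SmoothRed
import Groth.Agent.Ega1.ReducedSub
import Groth.Agent.Picfga.SecGraph
import Groth.Agent.S4991

/-!
# Isolated non-regular points are stable under connected groups

* `comap_vanishingIdeal`: smooth pullback of the ideal of a reduced closed subscheme;
* `regular_iff`: regularity along the two projections of the action groupoid;
* `preimage_singleton_eq`, `comap_eq`: isolated points of a stable finite set are stable.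
-/

set_option autoImplicit false
universe u
open CategoryTheory MonoidalCategory CartesianMonoidalCategory MonObj GrpObj AlgebraicGeometry Limits TopologicalSpace
open Groth.Agent Groth.Agent.Books.BorelOrb

namespace K339.EqPoint

/-- Smooth pullback of the ideal of a reduced closed subscheme. -/
theorem comap_vanishingIdeal {X Y : Scheme.{u}} (f : X ⟶ Y) [Smooth f] (Z : Closeds Y) :
    (Scheme.IdealSheafData.vanishingIdeal Z).comap f =
      Scheme.IdealSheafData.vanishingIdeal (Z.preimage f.continuous) := by
  set i := (Scheme.IdealSheafData.vanishingIdeal Z).subschemeι with hi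
  have hr : IsReduced (Scheme.IdealSheafData.vanishingIdeal Z).subscheme :=
    Groth.Agent.Ega1.ReducedSub.isReduced_subscheme_vanishingIdeal Z
  have sq := IsPullback.of_hasPullback i f
  have h1 : IsReduced (pullback i f) := Etcore.SmoothRed.isReduced_of_smooth (pullback.fst i f)
  have h2 : IsClosedImmersion (pullback.snd i f) := inferInstance
  have h3 := Picfga.SecGraph.ker_eq_comap_of_isPullback sq
  rw [show i.ker = Scheme.IdealSheafData.vanishingIdeal Z from Scheme.IdealSheafData.ker_subschemeι _] at h3
  rw [← h3, Groth.Agent.Ega1.ReducedSub.ker_eq_vanishingIdeal]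
  congr 1
  ext x
  have h4 : Set.range i = (Z : Set Y) := by
    rw [hi, Scheme.IdealSheafData.range_subschemeι]
    simp
  have h5 : Set.range (pullback.snd i f) = f ⁻¹' (Z : Set Y) := by
    rw [← h4]
    ext y
    constructor
    · rintro ⟨z, rfl⟩
      exact ⟨pullback.fst i f z, by rw [← Scheme.Hom.comp_apply, pullback.condition, Scheme.Hom.comp_apply]⟩
    · rintro ⟨z, hz⟩
      obtain ⟨w, -, hw⟩ := Scheme.Pullback.exists_preimage_pullback z y hz
      exact ⟨w, hw⟩
  change x ∈ closure (Set.range (pullback.snd i f)) ↔ x ∈ f ⁻¹' (Z : Set Y)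
  rw [h5, (Z.isClosed.preimage f.continuous).closure_eq]

variable {k : Type u} [Field k] {G X : Over (Spec (CommRingCat.of k))} [GrpObj G] (a : AlgGrp.Action G X)

instance smooth_snd [Smooth G.hom] : Smooth (snd G X).left :=
  inferInstanceAs (Smooth (pullback.snd G.hom X.hom))

theorem smooth_act [Smooth G.hom] : Smooth a.act.left := by
  let θ : G ⊗ X ⟶ G ⊗ X := lift (fst G X) a.act
  let θ' : G ⊗ X ⟶ G ⊗ X := lift (fst G X) (sm a (fst G X)⁻¹ (snd G X))
  have hact : a.act = sm a (fst G X) (snd G X) := by rw [sm, lift_fst_snd, Category.id_comp]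
  have hθ : θ ≫ θ' = 𝟙 _ := by
    apply CartesianMonoidalCategory.hom_ext
    · simp [θ, θ']
    · simp only [θ, θ', Category.assoc, lift_snd, comp_sm, GrpObj.comp_inv, lift_fst, Category.id_comp]
      rw [hact, ← mul_sm, inv_mul_cancel, one_sm]
  have hθ' : θ' ≫ θ = 𝟙 _ := by
    apply CartesianMonoidalCategory.hom_ext
    · simp [θ, θ']
    · simp only [θ, θ', Category.assoc, lift_snd]
      rw [hact, comp_sm, lift_fst, lift_snd, ← mul_sm, mul_inv_cancel, one_sm, Category.id_comp]
  have hi : IsIso θ := ⟨θ', hθ, hθ'⟩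
  have h2 : a.act = θ ≫ snd G X := by simp [θ]
  have h3 : IsIso θ.left := inferInstanceAs (IsIso ((Over.forget _).map θ))
  rw [h2, Over.comp_left]
  infer_instance

/-- Regularity along the two maps of the action groupoid. -/
theorem regular_iff [Smooth G.hom] [IsLocallyNoetherian X.left] (t : (G ⊗ X).left) :
    IsRegularLocalRing (X.left.presheaf.stalk (a.act.left t)) ↔
      IsRegularLocalRing (X.left.presheaf.stalk ((snd G X).left t)) := by
  have := smooth_act a
  have h1 := Groth.Agent.S4991.result a.act.left t ⟨⊤, trivial, inferInstance⟩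
  have h2 := Groth.Agent.S4991.result (snd G X).left t ⟨⊤, trivial, inferInstance⟩
  exact h1.symm.trans h2

/-- The preimage of a point under the second projection is irreducible. -/
theorem isPreconnected_preimage [Smooth G.hom] [ConnectedSpace G.left] (x : X.left) :
    _root_.IsPreconnected ((snd G X).left ⁻¹' {x}) := by
  have hG := K399.Basic.geometricallyIntegral G
  have h1 : GeometricallyIntegral (snd G X).left := inferInstanceAs (GeometricallyIntegral (pullback.snd G.hom X.hom))
  have h2 : IrreducibleSpace ((snd G X).left.fiber x) := inferInstance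
  rw [← Scheme.Hom.range_fiberι, ← Set.image_univ]
  exact (isPreconnected_univ (α := (snd G X).left.fiber x)).image _
    ((snd G X).left.fiberι x).continuous.continuousOn

/-- the unit section of `G ⊗ X` -/
noncomputable def us : X ⟶ G ⊗ X := lift (toUnit X ≫ η[G]) (𝟙 X)

lemma us_snd : us ≫ snd G X = 𝟙 X := by simp [us]

lemma us_act : us ≫ a.act = 𝟙 X := by
  have : (us : X ⟶ G ⊗ X) = lift (toUnit X) (𝟙 X) ≫ (η[G] ▷ X) := by
    rw [us, lift_whiskerRight]
  rw [this, Category.assoc, a.one_act]
  simp

/-- Points of a finite set of closed points stable under a connected group are stable. -/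
theorem preimage_singleton_eq [Smooth G.hom] [ConnectedSpace G.left] (T : Set X.left) (hT : T.Finite)
    (hcl : ∀ x ∈ T, IsClosed ({x} : Set X.left)) (hst : a.act.left ⁻¹' T = (snd G X).left ⁻¹' T)
    (x : X.left) (hx : x ∈ T) : a.act.left ⁻¹' {x} = (snd G X).left ⁻¹' {x} := by
  have key : ∀ y ∈ T, (snd G X).left ⁻¹' {y} ⊆ a.act.left ⁻¹' {y} := by
    intro y hy t ht
    have hpc := (isPreconnected_preimage (G := G) y).image _ a.act.left.continuous.continuousOn
    have hsub : a.act.left '' ((snd G X).left ⁻¹' {y}) ⊆ T := by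
      rintro _ ⟨s, hs, rfl⟩
      have : s ∈ (snd G X).left ⁻¹' T := by
        rw [Set.mem_preimage]
        rw [Set.mem_preimage, Set.mem_singleton_iff] at hs
        rw [hs]; exact hy
      rw [← hst] at this
      exact this
    have hyy : y ∈ a.act.left '' ((snd G X).left ⁻¹' {y}) := by
      refine ⟨us.left y, ?_, ?_⟩
      · rw [Set.mem_preimage, Set.mem_singleton_iff, ← Scheme.Hom.comp_apply, ← Over.comp_left, us_snd]
        rfl
      · rw [← Scheme.Hom.comp_apply, ← Over.comp_left, us_act]
        rfl
    have hcl2 : IsClosed (T \ {y}) := by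
      have : T \ {y} = ⋃ z ∈ (T \ {y}), {z} := (Set.biUnion_of_singleton _).symm
      rw [this]
      exact (hT.subset Set.sdiff_subset).isClosed_biUnion fun z hz => hcl z hz.1
    have hss := isPreconnected_closed_iff.1 hpc {y} (T \ {y}) (hcl y hy) hcl2 (by
      intro z hz
      by_cases h : z = y
      · exact Or.inl h
      · exact Or.inr ⟨hsub hz, h⟩) ⟨y, hyy, rfl⟩
    by_contra hne
    obtain ⟨z, -, hz1, hz2⟩ := hss ⟨a.act.left t, ⟨t, ht, rfl⟩, hsub ⟨t, ht, rfl⟩, hne⟩
    exact hz2.2 hz1
  refine Set.Subset.antisymm (fun t ht => ?_) (key x hx)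
  have h1 : t ∈ (snd G X).left ⁻¹' T := by
    rw [← hst, Set.mem_preimage]
    rw [Set.mem_preimage, Set.mem_singleton_iff] at ht
    rw [ht]; exact hx
  have h2 := key _ h1 (Set.mem_singleton ((snd G X).left t) : t ∈ (snd G X).left ⁻¹' {(snd G X).left t})
  rw [Set.mem_preimage, Set.mem_singleton_iff] at ht h2
  rw [Set.mem_preimage, Set.mem_singleton_iff, ← h2, ht]

/-- The ideal of an isolated non-regular point is stable. -/
theorem comap_eq [Smooth G.hom] [ConnectedSpace G.left] [IsLocallyNoetherian X.left]
    (hfin : {x : X.left | ¬ IsRegularLocalRing (X.left.presheaf.stalk x)}.Finite)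
    (hcl : ∀ x : X.left, ¬ IsRegularLocalRing (X.left.presheaf.stalk x) → IsClosed ({x} : Set X.left))
    (x : X.left) (hx : ¬ IsRegularLocalRing (X.left.presheaf.stalk x)) (hxc : IsClosed ({x} : Set X.left)) :
    (Scheme.IdealSheafData.vanishingIdeal ⟨{x}, hxc⟩).comap a.act.left =
      (Scheme.IdealSheafData.vanishingIdeal ⟨{x}, hxc⟩).comap (snd G X).left := by
  have := smooth_act a
  rw [comap_vanishingIdeal, comap_vanishingIdeal]
  congr 1
  ext t
  have h := preimage_singleton_eq a {x : X.left | ¬ IsRegularLocalRing (X.left.presheaf.stalk x)} hfin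
    (fun y hy => hcl y hy) (by ext t; exact not_congr (regular_iff a t)) x hx
  exact Set.ext_iff.1 h t

end K339.EqPoint
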