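import Groth.Agent.AlgGrp.K339.EqStep
import Groth.Agent.Resolve.K339.NonReg
import Groth.Agent.Sga67.BlowAmple
import Groth.Agent.CohqB.AmpGeneric
import Groth.Agent.Resolve.K377.NormSch

/-!
# Equivariance and ampleness along normalized blow-ups of non-regular points
-/

set_option autoImplicit false
universe u
open CategoryTheory MonoidalCategory CartesianMonoidalCategory MonObj GrpObj AlgebraicGeometry Limits TopologicalSpace
open Groth.Agent Groth.Agent.Resolve.K375 Tower GChain Geo NormSt HomGlue Groth.Agent.CurvesC.Modif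
open K339.EqPoint _root_.K377.QESch _root_.K375.NagSch

namespace K339.EqRes

/-- An integral scheme has integrally closed sections over affine opens with integrally closed stalks. -/
theorem isIntegrallyClosed_of_isAffineOpen {X : Scheme.{u}} [IsIntegral X] {V : X.Opens} (hV : IsAffineOpen V)
    (hne : Nonempty V) (hX : ∀ x ∈ V, IsIntegrallyClosed (X.presheaf.stalk x)) : IsIntegrallyClosed Γ(X, V) := by
  have : IsDomain Γ(X, V) := inferInstance
  refine IsIntegrallyClosed.of_localization_maximal fun p _ hp => ?_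
  let y : PrimeSpectrum Γ(X, V) := ⟨p, hp.isPrime⟩
  have hy : hV.fromSpec y ∈ V := (hV.isoSpec.inv y).2
  let _ : Algebra Γ(X, V) (X.presheaf.stalk (hV.fromSpec y)) :=
    TopCat.Presheaf.algebra_section_stalk X.presheaf ⟨hV.fromSpec y, hy⟩
  have h1 : IsLocalization.AtPrime (X.presheaf.stalk (hV.fromSpec y)) p :=
    hV.isLocalization_stalk' y hy
  have h2 : IsIntegrallyClosed (X.presheaf.stalk (hV.fromSpec y)) := hX _ hy
  exact IsIntegrallyClosed.of_equiv
    (IsLocalization.algEquiv p.primeCompl (X.presheaf.stalk (hV.fromSpec y)) (Localization.AtPrime p)).toRingEquiv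

/-- The normalization is an isomorphism over the regular opens. -/
theorem isIso_normalizationι_of_regular (X : Scheme.{u}) [IsIntegral X]
    [QuasiCompact (X.fromSpecStalk (genericPoint X))] [QuasiSeparated (X.fromSpecStalk (genericPoint X))]
    (U : X.Opens) (hU : ∀ x ∈ U, IsRegularLocalRing (X.presheaf.stalk x)) : IsIso (Curv2.normalizationι X ∣_ U) := by
  refine K377.NormSch.isIso_restrict_of_local _ U fun x hx => ?_
  obtain ⟨V, hV, hxV, hVU⟩ := exists_isAffineOpen_mem_and_subset (X := X) (x := x) (U := U) hx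
  refine ⟨V, hxV, hVU, ?_⟩
  refine CurvesC.NormNagata.isIso_normalizationι_restrict X V hV
    (((genericPoint_spec X).mem_open_set_iff V.isOpen).mpr (by simpa using ⟨x, hxV⟩)) ?_
  refine isIntegrallyClosed_of_isAffineOpen hV ⟨⟨x, hxV⟩⟩ fun y hy => ?_
  have := hU y (hVU hy)
  exact Groth.Agent.S9829.result _

/-- A proper morphism which is bijective with isomorphic stalks off `T` is an isomorphism over the opens disjoint
from `T`. -/
theorem isIso_restrict_of_off {Y X : Scheme.{u}} {T : Set X} {b : Y ⟶ X} [IsProper b] (h : Off T b) (U : X.Opens)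
    (hU : ∀ x ∈ U, x ∉ T) : IsIso (b ∣_ U) := by
  have hst : ∀ y : (b ⁻¹ᵁ U : Y.Opens), IsIso ((b ∣_ U).stalkMap y) := fun y => by
    have h1 : IsIso (b.stalkMap y.1) := h.iso y.1 (hU _ y.2)
    exact ((MorphismProperty.isomorphisms CommRingCat).arrow_mk_iso_iff (morphismRestrictStalkMap b U y)).2 h1
  have hinj : Function.Injective (b ∣_ U) := by
    intro y y' hyy
    have h1 : b y.1 = b y'.1 := by
      have := congrArg Subtype.val hyy
      rwa [morphismRestrict_base_coe, morphismRestrict_base_coe] at this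
    obtain ⟨w, -, hw⟩ := h.bij (b y.1) (hU _ y.2)
    exact Subtype.ext ((hw _ rfl).trans (hw _ h1.symm).symm)
  have hsurj : Function.Surjective (b ∣_ U) := by
    intro x
    obtain ⟨w, hw, -⟩ := h.bij x.1 (hU _ x.2)
    refine ⟨⟨w, by change b w ∈ U; rw [hw]; exact x.2⟩, Subtype.ext ?_⟩
    exact (morphismRestrict_base_coe b U _).trans hw
  have hcl : IsClosedMap (b ∣_ U) := (b ∣_ U).isClosedMap
  have hemb : Topology.IsClosedEmbedding (b ∣_ U) :=
    Topology.IsClosedEmbedding.of_continuous_injective_isClosedMap (b ∣_ U).continuous hinj hcl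
  have hop : Topology.IsOpenEmbedding (b ∣_ U) := ⟨hemb.isEmbedding, by rw [hsurj.range_eq]; exact isOpen_univ⟩
  have hoi : IsOpenImmersion (b ∣_ U) := IsOpenImmersion.iff_isIso_stalkMap.2 ⟨hop, hst⟩
  have hs : Surjective (b ∣_ U) := ⟨hsurj⟩
  exact (isIso_iff_isOpenImmersion_and_surjective _).2 ⟨hoi, hs⟩

variable {k : Type u} [Field k] {G S : Over (Spec (CommRingCat.of k))} [GrpObj G] (a : AlgGrp.Action G S)

/-- `G` acts on `Z` compatibly with `r : Z ⟶ S`. -/
def HasAct {Z : Scheme.{u}} (r : Z ⟶ S.left) : Prop :=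
  ∀ (p : Z ⟶ Spec (CommRingCat.of k)) (hp : r ≫ S.hom = p), ∃ a' : AlgGrp.Action G (Over.mk p),
    (G ◁ (Over.homMk r hp : Over.mk p ⟶ S)) ≫ a.act = a'.act ≫ (Over.homMk r hp : Over.mk p ⟶ S)

/-- The property carried along. -/
def E {Z : Scheme.{u}} (r : Z ⟶ S.left) : Prop :=
  HasAct a r ∧ (∃ L : Z.Modules, CohB1.IsAmple L) ∧
    Off {s : S.left | ¬ IsRegularLocalRing (S.left.presheaf.stalk s)} r

variable [Smooth G.hom] [ConnectedSpace G.left] [LocallyOfFiniteType S.hom] [IsIntegral S.left]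

theorem hasAct_step (hS : QE S.left) {Z Y : Scheme.{u}} (r : Z ⟶ S.left) (b : Y ⟶ Z) (z : Z) (h : ClN r)
    (hE : HasAct a r) (hb : NonReg.NRSt Y Z b z) : HasAct a (b ≫ r) := by
  have hZi := h.modif.integral
  have hZn := h.noeth
  have hrp := h.modif.proper
  obtain ⟨a1, ha1⟩ := hE (r ≫ S.hom) rfl
  have hne := NonReg.ne_generic h z hb.2
  have hst := h.step hb.1 hne
  obtain ⟨V, hV, hVi⟩ := hst.modif.exists_isIso
  have hVs := hst.modif.surjective
  obtain ⟨hb1, hb2⟩ := hb
  cases hb1 with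
  | @mk Z' _ _ hq1 hq2 c z hc =>
    have hcm := hc.isModif hne
    obtain ⟨hz, hc⟩ := hc
    have hcp := hcm.proper
    let Zo : Over (Spec (CommRingCat.of k)) := Over.mk (r ≫ S.hom)
    have hZl : IsLocallyNoetherian Zo.left := inferInstanceAs (IsLocallyNoetherian Z)
    have hI := comap_eq (X := Zo) a1 (NonReg.finite_nonregular hS h) (NonReg.isClosed_nonregular h) z hb2 hz
    obtain ⟨m, hm, hus⟩ := EqStep.exists_lift_blowUp (Z := Zo) a1 c _ hc hI
    let Zb : Over (Spec (CommRingCat.of k)) := Over.mk (c ≫ Zo.hom)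
    have hint : IsIntegral Zb.left := hcm.integral
    have hlf : LocallyOfFiniteType Zb.hom :=
      inferInstanceAs (LocallyOfFiniteType (c ≫ r ≫ S.hom))
    obtain ⟨m', hm'⟩ := EqStep.exists_lift_normalization (Z := Zb) (isModif_normalizationι h hcm).2 m hus
    intro p hp
    obtain rfl : p = Curv2.normalizationι Z' ≫ c ≫ r ≫ S.hom := by rw [← hp]; simp only [Category.assoc]
    let Yo : Over (Spec (CommRingCat.of k)) := Over.mk (Curv2.normalizationι Z' ≫ c ≫ r ≫ S.hom)
    let π : Yo ⟶ S := Over.homMk ((Curv2.normalizationι Z' ≫ c) ≫ r) hp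
    let ι' : Yo ⟶ Zb := Over.homMk (Curv2.normalizationι Z')
    let c' : Zb ⟶ Zo := Over.homMk c
    let r' : Zo ⟶ S := Over.homMk r
    have hπ : π = ι' ≫ c' ≫ r' := by
      ext1
      simp [π, ι', c', r']
    have key : (G ◁ π) ≫ a.act = m' ≫ π := by
      rw [hπ]
      simp only [MonoidalCategory.whiskerLeft_comp, Category.assoc]
      have e1 : (G ◁ r') ≫ a.act = a1.act ≫ r' := ha1
      have e2 : (G ◁ c') ≫ a1.act = m ≫ c' := hm
      have e3 : (G ◁ ι') ≫ m = m' ≫ ι' := hm'
      rw [e1, reassoc_of% e2, reassoc_of% e3]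
    have hYi : IsIntegral Yo.left := hst.modif.integral
    have hlY : LocallyOfFiniteType Yo.hom := by
      have := hst.modif.proper
      rw [show Yo.hom = ((Curv2.normalizationι Z' ≫ c) ≫ r) ≫ S.hom from hp.symm]
      infer_instance
    have hsep : IsSeparated π.left := by
      have := hst.modif.proper
      exact inferInstanceAs (IsSeparated ((Curv2.normalizationι Z' ≫ c) ≫ r))
    have hVi' : IsIso (π.left ∣_ V) := hVi
    have hVne : ((π.left ⁻¹ᵁ V : Yo.left.Opens) : Set Yo.left).Nonempty := by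
      obtain ⟨s, hs⟩ := hV
      obtain ⟨y, hy⟩ := hVs.surj s
      exact ⟨y, by change ((Curv2.normalizationι Z' ≫ c) ≫ r) y ∈ V; rw [hy]; exact hs⟩
    obtain ⟨a', ha'⟩ := LiftAct.exists_action a π V hVne m' key
    exact ⟨a', by rw [ha']; exact key⟩

theorem E_step (hS : QE S.left) {Z Y : Scheme.{u}} (r : Z ⟶ S.left) (b : Y ⟶ Z) (z : Z) (h : ClN r)
    (hE : E a r) (hb : NonReg.NRSt Y Z b z) : E a (b ≫ r) := by
  refine ⟨hasAct_step a hS r b z h hE.1 hb, ?_, ?_⟩
  · have hZi := h.modif.integral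
    have hZn := h.noeth
    have hne := NonReg.ne_generic h z hb.2
    obtain ⟨L, hL⟩ := hE.2.1
    obtain ⟨hb1, hb2⟩ := hb
    cases hb1 with
    | @mk Z' _ _ hq1 hq2 c z hc =>
      have hcm := hc.isModif hne
      obtain ⟨hz, hc⟩ := hc
      have hcp := hcm.proper
      obtain ⟨M, hM⟩ := Sga67.BlowAmple.exists_isAmple hc L hL
      have hfin := (isModif_normalizationι h hcm).2
      exact ⟨_, CohqB.AmpCocycle.isAmple_pullback (Curv2.normalizationι Z') hM⟩
  · refine hE.2.2.comp (hb.1.off h) ?_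
    rintro x rfl
    by_contra hc
    have := hE.2.2.iso x hc
    have hreg : IsRegularLocalRing (S.left.presheaf.stalk (r x)) := by
      by_contra h1
      exact hc h1
    have ε : S.left.presheaf.stalk (r x) ≃+* Z.presheaf.stalk x :=
      (asIso (r.stalkMap x)).commRingCatIsoToRingEquiv
    exact hb.2 (IsRegularLocalRing.of_ringEquiv ε)

end K339.EqRes
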