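import Groth.Agent.AlgGrp.K339.EqPoint
import Groth.Agent.Resolve.K372.NormFac
import Groth.Agent.Divis.EffCartier
import Groth.Agent.Ega4dA.SmoothStalk

/-!
# Lifting an action to blow-ups in stable ideals and to normalizations
-/

set_option autoImplicit false
universe u
open CategoryTheory MonoidalCategory CartesianMonoidalCategory MonObj GrpObj AlgebraicGeometry Limits TopologicalSpace
open Groth.Agent Groth.Agent.Books.BorelOrb K339.EqPoint

namespace K339.EqStep

variable {k : Type u} [Field k] {G Z : Over (Spec (CommRingCat.of k))} [GrpObj G]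

/-- Lift of an action to the blow-up in a stable ideal. -/
theorem exists_lift_blowUp [Smooth G.hom] (a : AlgGrp.Action G Z) {Z' : Scheme.{u}} (c : Z' ⟶ Z.left)
    (I : Z.left.IdealSheafData) (hc : BlowUp.IsBlowUp c I)
    (hI : I.comap a.act.left = I.comap (snd G Z).left) :
    ∃ m : G ⊗ Over.mk (c ≫ Z.hom) ⟶ Over.mk (c ≫ Z.hom),
      (G ◁ (Over.homMk c : Over.mk (c ≫ Z.hom) ⟶ Z)) ≫ a.act = m ≫ Over.homMk c ∧ us ≫ m = 𝟙 _ := by
  let Zo : Over (Spec (CommRingCat.of k)) := Over.mk (c ≫ Z.hom)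
  let gm : Zo ⟶ Z := Over.homMk c
  have h1 : I.comap ((G ◁ gm) ≫ a.act).left = (I.comap c).comap (snd G Zo).left := by
    rw [Over.comp_left, Scheme.IdealSheafData.comap_comp, hI, ← Scheme.IdealSheafData.comap_comp, ← Over.comp_left,
      whiskerLeft_snd, Over.comp_left, Scheme.IdealSheafData.comap_comp]
    rfl
  have h2 : BlowUp.IsEffCartierIdeal (I.comap ((G ◁ gm) ≫ a.act).left) := by
    rw [h1]
    exact Divis.EffCartier.isEff_comap_flat hc.1 _
  obtain ⟨h, hh, -⟩ := hc.2 _ _ h2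
  have hw : h ≫ Zo.hom = (G ⊗ Zo).hom := by
    have : h ≫ c ≫ Z.hom = (G ⊗ Zo).hom := by
      rw [← Category.assoc, hh, Over.w]
    exact this
  have hm : (G ◁ gm) ≫ a.act = (Over.homMk h hw : G ⊗ Zo ⟶ Zo) ≫ gm := by
    ext1
    exact hh.symm
  refine ⟨Over.homMk h hw, hm, ?_⟩
  ext1
  obtain ⟨w, -, hu⟩ := hc.2 _ c hc.1
  have e1 : us ≫ (Over.homMk h hw : G ⊗ Zo ⟶ Zo) ≫ gm = gm := by
    rw [← hm]
    have : (us : Zo ⟶ G ⊗ Zo) ≫ (G ◁ gm) = gm ≫ us := by
      apply CartesianMonoidalCategory.hom_ext <;> simp [us]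
    rw [← Category.assoc, this, Category.assoc, us_act, Category.comp_id]
  have e2 : (us ≫ (Over.homMk h hw : G ⊗ Zo ⟶ Zo)).left ≫ c = c := by
    have := congrArg (fun z => z.left) e1
    rw [Over.comp_left, Over.comp_left] at this
    rw [Over.comp_left, Category.assoc]
    exact this
  have e3 : (𝟙 Zo : Zo ⟶ Zo).left ≫ c = c := by simp
  rw [hu _ e2, ← hu _ e3]

variable [ConnectedSpace G.left]

/-- Lift of an action to the normalization. -/
theorem exists_lift_normalization [Smooth G.hom] [IsIntegral Z.left] [LocallyOfFiniteType Z.hom]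
    [QuasiCompact (Z.left.fromSpecStalk (genericPoint Z.left))]
    [QuasiSeparated (Z.left.fromSpecStalk (genericPoint Z.left))]
    (hfin : IsFinite (Curv2.normalizationι Z.left))
    (m : G ⊗ Z ⟶ Z) (hm : us ≫ m = 𝟙 Z) :
    ∃ m' : G ⊗ Over.mk (Curv2.normalizationι Z.left ≫ Z.hom) ⟶ Over.mk (Curv2.normalizationι Z.left ≫ Z.hom),
      (G ◁ (Over.homMk (Curv2.normalizationι Z.left) : Over.mk (Curv2.normalizationι Z.left ≫ Z.hom) ⟶ Z)) ≫ m =
        m' ≫ Over.homMk (Curv2.normalizationι Z.left) := by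
  let Y : Over (Spec (CommRingCat.of k)) := Over.mk (Curv2.normalizationι Z.left ≫ Z.hom)
  let ν : Y ⟶ Z := Over.homMk (Curv2.normalizationι Z.left)
  obtain ⟨hYi, hYn, -, hgen, -⟩ := Groth.Agent.S2351.result Z.left
  have hYi' : IsIntegral Y.left := hYi
  have hft : LocallyOfFiniteType Y.hom :=
    inferInstanceAs (LocallyOfFiniteType (Curv2.normalizationι Z.left ≫ Z.hom))
  have hTi : IsIntegral (G ⊗ Y).left := LiftAct.isIntegral_prod G Y
  have hTn : Pi1.IsNormalScheme (G ⊗ Y).left := Ega4dA.SmoothStalk.stalk_of_smooth hYn (snd G Y).left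
  have hlft : LocallyOfFiniteType (G ⊗ Y).hom :=
    inferInstanceAs (LocallyOfFiniteType (pullback.fst G.hom Y.hom ≫ G.hom))
  have hln : IsLocallyNoetherian (G ⊗ Y).left := LocallyOfFiniteType.isLocallyNoetherian (G ⊗ Y).hom
  have hq1 : QuasiCompact ((G ⊗ Y).left.fromSpecStalk (genericPoint (G ⊗ Y).left)) := inferInstance
  have hq2 : QuasiSeparated ((G ⊗ Y).left.fromSpecStalk (genericPoint (G ⊗ Y).left)) := inferInstance
  let g : (G ⊗ Y).left ⟶ Z.left := ((G ◁ ν) ≫ m).left
  have hus : (us : Y ⟶ G ⊗ Y) ≫ (G ◁ ν) ≫ m = ν := by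
    have : (us : Y ⟶ G ⊗ Y) ≫ (G ◁ ν) = ν ≫ us := by
      apply CartesianMonoidalCategory.hom_ext <;> simp [us]
    rw [← Category.assoc, this, Category.assoc, hm, Category.comp_id]
  have hνg : Curv2.normalizationι Z.left (genericPoint (Curv2.normalization Z.left)) = genericPoint Z.left := by

    exact hgen
  have hgg : g (genericPoint (G ⊗ Y).left) = genericPoint Z.left := by
    have h1 : g ((us : Y ⟶ G ⊗ Y).left (genericPoint (Curv2.normalization Z.left))) = genericPoint Z.left := by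
      rw [← Scheme.Hom.comp_apply, ← Over.comp_left, hus]
      exact hνg
    have h2 : g (genericPoint (G ⊗ Y).left) ⤳ genericPoint Z.left := by
      rw [← h1]
      exact (genericPoint_specializes _).map g.continuous
    exact (h2.antisymm (genericPoint_specializes _)).eq
  obtain ⟨h, hh⟩ := K372.NormFac.exists_fac hTn g hgg
  have hw : h ≫ Y.hom = (G ⊗ Y).hom := by
    have : h ≫ Curv2.normalizationι Z.left ≫ Z.hom = (G ⊗ Y).hom := by
      rw [← Category.assoc, hh, Over.w]
    exact this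
  refine ⟨Over.homMk h hw, ?_⟩
  ext1
  exact hh.symm

end K339.EqStep
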