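import Groth.Agent.AlgGrp.K399.Basic
import Groth.Agent.AlgGrp.K403.TrivModif
import Groth.Agent.CurvesC.Modif
import Groth.Agent.FlatMor.K263.IsoDescend
import Groth.Agent.Flat2G.GeomIntNbhd

/-!
# Lifting an action of a smooth connected group to a modification

* `isIntegral_prod`: `G ⊗ Y` is integral;
* `eq_of_comp_eq_of_mem`: uniqueness of lifts to a separated birational scheme;
* `exists_action`: a lift of the action morphism to a modification is an action;
* `geometricallyIntegral_of_isModif`.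
-/

set_option autoImplicit false
universe u
open CategoryTheory MonoidalCategory CartesianMonoidalCategory MonObj GrpObj AlgebraicGeometry Limits
open Groth.Agent Groth.Agent.CurvesC.Modif K403.Dense

namespace K339.LiftAct

variable {k : Type u} [Field k]

theorem isIntegral_prod (G Y : Over (Spec (CommRingCat.of k))) [GrpObj G] [Smooth G.hom]
    [ConnectedSpace G.left] [IsIntegral Y.left] [LocallyOfFiniteType Y.hom] : IsIntegral (G ⊗ Y).left := by
  have := K399.Basic.geometricallyIntegral G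
  have hN : IsLocallyNoetherian Y.left := LocallyOfFiniteType.isLocallyNoetherian Y.hom
  exact inferInstanceAs (IsIntegral (pullback G.hom Y.hom))

/-- Uniqueness of lifts along a separated morphism which is an isomorphism over an open set. -/
theorem eq_of_comp_eq_of_mem {T X' X : Scheme.{u}} [IsIntegral T] (π : X' ⟶ X) [IsSeparated π] (V : X.Opens)
    [IsIso (π ∣_ V)] (α β : T ⟶ X') (h : α ≫ π = β ≫ π) (t : T) (ht : (α ≫ π) t ∈ V) : α = β := by
  let W : T.Opens := (α ≫ π) ⁻¹ᵁ V
  have hWd : IsDominant W.ι := by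
    refine ⟨?_⟩
    rw [DenseRange, Scheme.Opens.range_ι]
    exact W.isOpen.dense ⟨t, ht⟩
  have hWs : IsSchemeTheoreticallyDominant W.ι := .of_isDominant _
  refine eq_of_separated W.ι π α β h ?_
  refine K403.TrivModif.eq_of_comp_eq π V _ _ ((α ≫ π) ∣_ V) ?_ ?_
  · rw [Category.assoc, morphismRestrict_ι]
  · rw [Category.assoc, ← h, morphismRestrict_ι]

variable {G X X' : Over (Spec (CommRingCat.of k))} [GrpObj G] [Smooth G.hom] [ConnectedSpace G.left]

/-- A lift of the action morphism to a modification is an action. -/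
theorem exists_action (a : AlgGrp.Action G X) (π : X' ⟶ X) [IsIntegral X'.left] [LocallyOfFiniteType X'.hom]
    [IsSeparated π.left] (V : X.left.Opens) (hV : (π.left ⁻¹ᵁ V : Set X'.left).Nonempty) [IsIso (π.left ∣_ V)]
    (m : G ⊗ X' ⟶ X') (hm : (G ◁ π) ≫ a.act = m ≫ π) : ∃ a' : AlgGrp.Action G X', a'.act = m := by
  obtain ⟨x, hx⟩ := hV
  have h1 : (η[G] ▷ X') ≫ m = (λ_ X').hom := by
    have hcomp : ((η[G] ▷ X') ≫ m) ≫ π = (λ_ X').hom ≫ π := by
      rw [Category.assoc, ← hm, ← Category.assoc, ← whisker_exchange, Category.assoc, a.one_act]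
      simp
    have hisoL : IsIso (λ_ X').hom.left := inferInstanceAs (IsIso ((Over.forget _).map (λ_ X').hom))
    have hneL : Nonempty (𝟙_ (Over (Spec (CommRingCat.of k))) ⊗ X').left := ⟨(λ_ X').inv.left x⟩
    have hint : IsIntegral (𝟙_ (Over (Spec (CommRingCat.of k))) ⊗ X').left :=
      isIntegral_of_isOpenImmersion (λ_ X').hom.left
    ext1
    refine eq_of_comp_eq_of_mem π.left V _ _ ?_ ((λ_ X').inv.left x) ?_
    · rw [← Over.comp_left, ← Over.comp_left, hcomp]
    · rw [← Over.comp_left, hcomp, Over.comp_left, ← Scheme.Hom.comp_apply]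
      have : (λ_ X').inv.left ≫ (λ_ X').hom.left ≫ π.left = π.left := by
        rw [← Category.assoc, ← Over.comp_left, Iso.inv_hom_id]
        simp
      rw [this]
      exact hx
  refine ⟨⟨m, h1, ?_⟩, rfl⟩
  have hcomp : ((μ[G] ▷ X') ≫ m) ≫ π = ((α_ G G X').hom ≫ (G ◁ m) ≫ m) ≫ π := by
    rw [Category.assoc, ← hm, ← Category.assoc, ← whisker_exchange, Category.assoc, a.mul_act]
    simp only [Category.assoc, ← hm]
    rw [← MonoidalCategory.whiskerLeft_comp_assoc, ← hm]
    simp
  have hI1 : IsIntegral (G ⊗ X').left := isIntegral_prod G X'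
  have hl : LocallyOfFiniteType G.hom := inferInstance
  have hl1 : LocallyOfFiniteType (G ⊗ X').hom :=
    inferInstanceAs (LocallyOfFiniteType (pullback.fst G.hom X'.hom ≫ G.hom))
  have hI2 : IsIntegral (G ⊗ (G ⊗ X')).left := isIntegral_prod G (G ⊗ X')
  have hisoA : IsIso (α_ G G X').hom.left := inferInstanceAs (IsIso ((Over.forget _).map (α_ G G X').hom))
  have hneA : Nonempty ((G ⊗ G) ⊗ X').left :=
    ⟨(α_ G G X').inv.left (genericPoint (G ⊗ (G ⊗ X')).left)⟩
  have hint : IsIntegral ((G ⊗ G) ⊗ X').left := isIntegral_of_isOpenImmersion (α_ G G X').hom.left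
  -- the unit section
  let s : X' ⟶ (G ⊗ G) ⊗ X' := lift (lift (toUnit X' ≫ η[G]) (toUnit X' ≫ η[G])) (𝟙 X')
  have hs : s ≫ (μ[G] ▷ X') ≫ m = 𝟙 X' := by
    have h2 : s ≫ (μ[G] ▷ X') = lift (toUnit X') (𝟙 X') ≫ (η[G] ▷ X') := by
      apply CartesianMonoidalCategory.hom_ext
      · simp only [s, Category.assoc, whiskerRight_fst, lift_fst_assoc]
        have h3 : lift (toUnit X' ≫ η[G]) (toUnit X' ≫ η[G]) = toUnit X' ≫ lift η[G] η[G] := by
          rw [comp_lift]
        rw [h3, Category.assoc]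
        congr 1
        have h4 := MonObj.lift_comp_one_right (η[G]) (𝟙 (𝟙_ (Over (Spec (CommRingCat.of k)))))
        simpa using h4
      · simp [s]
    rw [← Category.assoc, h2, Category.assoc, h1]
    simp
  ext1
  refine eq_of_comp_eq_of_mem π.left V _ _ ?_ (s.left x) ?_
  · rw [← Over.comp_left, ← Over.comp_left, hcomp]
  · rw [← Scheme.Hom.comp_apply, ← Over.comp_left, ← Over.comp_left]
    have : s ≫ ((μ[G] ▷ X') ≫ m) ≫ π = π := by
      rw [← Category.assoc, hs, Category.id_comp]
    rw [this]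
    exact hx

/-- A modification of a geometrically integral scheme over a field is geometrically integral. -/
theorem geometricallyIntegral_of_isModif {Y Z : Scheme.{u}} (p : Z ⟶ Spec (CommRingCat.of k))
    [GeometricallyIntegral p] [LocallyOfFiniteType p] (f : Y ⟶ Z) (hf : IsModif f) :
    GeometricallyIntegral (f ≫ p) := by
  have := hf.proper
  have := hf.integral
  have hZ : IsIntegral Z := GeometricallyIntegral.isIntegral_of_subsingleton p
  obtain ⟨U, hU, hUi⟩ := hf.exists_isIso
  have hs := hf.surjective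
  have hne : ((f ⁻¹ᵁ U : Y.Opens) : Set Y).Nonempty := by
    obtain ⟨z, hz⟩ := hU
    obtain ⟨y, hy⟩ := hs.surj z
    exact ⟨y, by change f y ∈ U; rw [hy]; exact hz⟩
  have hN : IsLocallyNoetherian Y := LocallyOfFiniteType.isLocallyNoetherian (f ≫ p)
  have hWd : IsDominant (f ⁻¹ᵁ U).ι := by
    refine ⟨?_⟩
    rw [DenseRange, Scheme.Opens.range_ι]
    exact (f ⁻¹ᵁ U).isOpen.dense hne
  have hWs : IsSchemeTheoreticallyDominant (f ⁻¹ᵁ U).ι := .of_isDominant _
  have hqc : QuasiCompact (f ⁻¹ᵁ U).ι := inferInstance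
  have hUg : GeometricallyIntegral (U.ι ≫ p) := by
    have hneU : Nonempty U := by
      obtain ⟨z, hz⟩ := hU
      exact ⟨⟨z, hz⟩⟩
    have : Surjective (U.ι ≫ p) := ⟨fun y => ⟨Classical.arbitrary _, Subsingleton.elim _ _⟩⟩
    exact Flat2G.GeomIntNbhd.geometricallyIntegral_of_openImmersion U.ι p _ rfl
  constructor
  intro K _ x T fst snd hT
  -- the open part
  have hU' : IsPullback (pullback.fst (f ⁻¹ᵁ U).ι fst) (pullback.snd (f ⁻¹ᵁ U).ι fst) (f ⁻¹ᵁ U).ι fst :=
    IsPullback.of_hasPullback _ _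
  have hPd : IsSchemeTheoreticallyDominant (pullback.snd (f ⁻¹ᵁ U).ι fst) := by
    have hfl : Flat fst := MorphismProperty.of_isPullback hT.flip inferInstance
    infer_instance
  have hPq : QuasiCompact (pullback.snd (f ⁻¹ᵁ U).ι fst) := inferInstance
  have hcomb := hU'.flip.paste_horiz hT.flip
  have hPi : IsIntegral (pullback (f ⁻¹ᵁ U).ι fst) := by
    have hg : GeometricallyIntegral ((f ⁻¹ᵁ U).ι ≫ f ≫ p) := by
      have : (f ⁻¹ᵁ U).ι ≫ f ≫ p = (f ∣_ U) ≫ (U.ι ≫ p) := by
        rw [← Category.assoc, ← Category.assoc, morphismRestrict_ι]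
      rw [this]
      have hri : MorphismProperty.RespectsIso @GeometricallyIntegral :=
        MorphismProperty.IsStableUnderBaseChange.respectsIso
      exact (MorphismProperty.cancel_left_of_respectsIso (P := @GeometricallyIntegral) _ _).2 hUg
    exact hg.geometrically_isIntegral x _ _ hcomb.flip
  exact K263.IsoDescend.isIntegral_of_dominant (pullback.snd (f ⁻¹ᵁ U).ι fst)

end K339.LiftAct
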